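import Cfsg.Agent.Lib.MathieuFusion.Criterion

/-!
# A subgroup carrying a self-normalizing Sylow subgroup of the ambient group
-/

set_option autoImplicit false

namespace Cfsg.Agent.Lib.MathieuFusion

open Cfsg

variable {A B : Type*} [Group A] [Group B] [Finite A] [Finite B] {p : ℕ} [Fact p.Prime]

/-- Facts about a Sylow subgroup of a subgroup of full `p`-part pass to the ambient group. -/
theorem isSimple_of_embedded (f : A →* B) (hf : Function.Injective f)
    (hfac : (Nat.card A).factorization p = (Nat.card B).factorization p)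
    (P : Sylow p A) (hne : (P : Subgroup A) ≠ ⊥)
    (hNA : Subgroup.normalizer ((P : Subgroup A) : Set A) ≤ (P : Subgroup A))
    (hN : Subgroup.normalizer (((P : Subgroup A).map f : Subgroup B) : Set B) ≤ f.range)
    (hcl : ∀ T : Subgroup A, T ≤ (P : Subgroup A) → ConjClosed (P : Subgroup A) T →
      T = ⊥ ∨ T = (P : Subgroup A))
    (S : Sylow p B) : (groupFusionSystem (S : Subgroup B)).IsSimple p := by
  let Q : Sylow p B := Sylow.ofCard ((P : Subgroup A).map f) (by
    rw [Subgroup.card_map_of_injective hf, P.card_eq_multiplicity, hfac])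
  obtain ⟨g, hg⟩ := MulAction.exists_smul_eq B Q S
  set c : B ≃* B := MulAut.conj g with hc
  set f' : A →* B := c.toMonoidHom.comp f with hf'
  have hf'i : Function.Injective f' := c.injective.comp hf
  have hS : (S : Subgroup B) = (P : Subgroup A).map f' := by
    rw [hf', ← Subgroup.map_map, ← hg, Sylow.coe_subgroup_smul]
    rfl
  have hNS : Subgroup.normalizer ((S : Subgroup B) : Set B) ≤ (S : Subgroup B) := by
    intro n hn
    rw [hS, hf', ← Subgroup.map_map, ← Subgroup.map_equiv_normalizer_eq] at hn
    obtain ⟨m, hm, rfl⟩ := hn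
    obtain ⟨a, rfl⟩ := hN hm
    rw [hS]
    refine ⟨a, hNA (Subgroup.mem_normalizer_iff.mpr fun x => ?_), rfl⟩
    have h := Subgroup.mem_normalizer_iff.mp hm (f x)
    rwa [Subgroup.mem_map_iff_mem hf, ← map_inv, ← map_mul, ← map_mul,
      Subgroup.mem_map_iff_mem hf] at h
  refine isSimple_of_selfNormalizing S ?_ hNS fun T hT hTc => ?_
  · rw [hS, Ne, Subgroup.map_eq_bot_iff_of_injective _ hf'i]
    exact hne
  have hmap : (T.comap f').map f' = T := Subgroup.map_comap_eq_self (fun x hx => by
    have h := hT hx
    rw [hS] at h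
    obtain ⟨a, -, rfl⟩ := h
    exact ⟨a, rfl⟩)
  rcases hcl (T.comap f') (fun a ha => by
      have h := hT (Subgroup.mem_comap.mp ha)
      rw [hS] at h
      exact (Subgroup.mem_map_iff_mem hf'i).mp h)
      (fun x hx a ha => by
        rw [Subgroup.mem_comap, map_mul, map_mul, map_inv]
        refine hTc _ hx _ ?_
        rw [hS, ← map_inv, ← map_mul, ← map_mul]
        exact Subgroup.mem_map_of_mem f' ha) with h | h
  · exact Or.inl (by rw [← hmap, h, Subgroup.map_bot])
  · exact Or.inr (by rw [← hmap, h, hS])

end Cfsg.Agent.Lib.MathieuFusion
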