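import Cfsg.Agent.Lib.MathieuFusion.M22
import Cfsg.Agent.Lib.MathieuFusion.Embedded
import Cfsg.Agent.Lib.Leech.McLHS
import Cfsg.Prelude.Def_Spor_Conway

/-!
# The 2-fusion system of the McLaughlin group

A Sylow 2-subgroup lies in the monomial copy of M22; an element normalizing it fixes the two
coordinate vectors `eightE none` and `eightE (some 0)`, hence lies in that copy.
-/

set_option autoImplicit false

namespace Cfsg.Agent.Lib.MathieuFusion.McL

open Cfsg Cfsg.Agent.Lib Leech

/-- The group as a subgroup of the automorphisms of the lattice. -/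
noncomputable def H : Subgroup Co0 :=
  MulAction.stabilizer Co0 Spor.leechV ⊓ MulAction.stabilizer Co0 Spor.leechU

/-- The identification with the defined group. -/
noncomputable def equiv : H ≃* Spor.McL where
  toFun g := ⟨((g : Co0) : Equiv.Perm leechLattice), ⟨⟨(g : Co0).2, g.2.1⟩, g.2.2⟩⟩
  invFun g := ⟨⟨(g : Equiv.Perm leechLattice), g.2.1.1⟩, ⟨g.2.1.2, g.2.2⟩⟩
  left_inv _ := rfl
  right_inv _ := rfl
  map_mul' _ _ := rfl

theorem card_H : Nat.card H = 898128000 := by
  set w : leechLattice := -(Spor.leechU + Spor.leechV)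
  have h : H = MulAction.stabilizer Co0 Spor.leechU ⊓ MulAction.stabilizer Co0 w := by
    ext g
    show g • Spor.leechV = Spor.leechV ∧ g • Spor.leechU = Spor.leechU ↔
      g • Spor.leechU = Spor.leechU ∧ g • w = w
    rw [show g • w = -(g • Spor.leechU + g • Spor.leechV) by rw [smul_neg', smul_add'], neg_inj]
    constructor
    · rintro ⟨hv, hu⟩
      exact ⟨hu, by rw [hv, hu]⟩
    · rintro ⟨hu, hw⟩
      rw [hu] at hw
      exact ⟨add_left_cancel hw, hu⟩
  rw [h]
  refine card_pair_stab ?_ ?_ ?_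
  · show sqNorm Spor.vecU = 32
    decide +kernel
  · show sqNorm (-(Spor.vecU + Spor.vecV)) = 32
    decide +kernel
  · show dotInt Spor.vecU (-(Spor.vecU + Spor.vecV)) = -8
    decide +kernel

theorem mem_H (σ : Spor.M22) :
    permHom ⟨(σ : Equiv.Perm GolayPt), σ.2.1.1⟩ ∈ H := by
  have h : permHom ⟨(σ : Equiv.Perm GolayPt), σ.2.1.1⟩ ∈ m22Elts :=
    ⟨_, ⟨σ.2.1.2, σ.2.2⟩, rfl⟩
  refine ⟨m22Elts_fix (fun a _ => ?_) h, m22Elts_fix (fun a ha => ?_) h⟩
  · simp [vec, Spor.leechV, Spor.vecV]
  · simp [vec, Spor.leechU, Spor.vecU, ha, show (1 : ZMod 23) ≠ 0 by decide]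

/-- The monomial copy of M22. -/
noncomputable def emb : Spor.M22 →* H :=
  MonoidHom.mk' (fun σ => ⟨permHom ⟨(σ : Equiv.Perm GolayPt), σ.2.1.1⟩, mem_H σ⟩)
    fun a b => Subtype.ext (permHom.map_mul ⟨_, a.2.1.1⟩ ⟨_, b.2.1.1⟩)

theorem emb_injective : Function.Injective emb := fun a b h => by
  have := permHom_injective (congrArg Subtype.val h)
  exact Subtype.ext (congrArg (fun x : M24 => (x : Equiv.Perm GolayPt)) this)

theorem factorization_eq :
    (Nat.card Spor.M22).factorization 2 = (Nat.card H).factorization 2 := by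
  have key : ∀ a b : ℕ, ¬ 2 ∣ b → (a * b).factorization 2 = a.factorization 2 ∨ a = 0 := by
    intro a b hb
    by_cases ha : a = 0
    · exact Or.inr ha
    left
    rw [Nat.factorization_mul ha (by intro e; simp [e] at hb), Finsupp.add_apply,
      Nat.factorization_eq_zero_of_not_dvd hb, add_zero]
  rw [card_H, Golay.card_spor_M22, show (443520 : ℕ) = 128 * 3465 by norm_num,
    show (898128000 : ℕ) = 128 * 7016625 by norm_num]
  rcases key 128 3465 (by norm_num) with h | h <;> rcases key 128 7016625 (by norm_num) with h' | h'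
  all_goals omega

/-- The top generators of the 2-subgroup. -/
def gens : List ℕ := [0xb99458ca70691e81552c3da8e1ac20, 0xb96863ac706d9e80b92c891559c840,
  0xb90ca3c86d4960c5d1e89d5d688820, 0xbcdf1a2ec6736ac90ca85260720440]

theorem gens_ok : (gens.all fun c => memPts [23, 0] c) = true := by decide +kernel

theorem gperm_mem {s : ℕ} (hs : s ∈ gens) : Golay.gperm s ∈ Spor.M22 := by
  have h := List.all_eq_true.mp gens_ok s hs
  exact ⟨memPts_spec (is := [23, 0]) h (i := 23) (by decide) (by norm_num),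
    (memPts_spec (is := [23, 0]) h (i := 0) (by decide) (by norm_num)).2⟩

theorem gens_eq : (R24.topGens Cert.m22S_chain) = gens := by rfl

/-- The certified 2-subgroup. -/
noncomputable def S0 : Subgroup Spor.M22 :=
  ((R24.grp Cert.m22S_chain).map Golay.indexHom.toMonoidHom).subgroupOf Spor.M22

theorem S0_isPGroup : IsPGroup 2 S0 := by
  have hle : (R24.grp Cert.m22S_chain).map Golay.indexHom.toMonoidHom ≤ Spor.M22 := by
    rw [Computation.Rep.grp, MonoidHom.map_closure, Subgroup.closure_le]
    rintro _ ⟨_, ⟨s, hs, rfl⟩, rfl⟩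
    exact gperm_mem (gens_eq ▸ hs)
  refine IsPGroup.of_card (n := 7) ?_
  rw [S0, Nat.card_congr (Subgroup.subgroupOfEquivOfLe hle).toEquiv,
    Subgroup.card_map_of_injective Golay.indexHom.injective,
    R24.card_grp (R24.checkChain_of_checkClosure Cert.m22S_check)]
  decide +kernel

theorem mem_S0 {s : ℕ} (hs : s ∈ gens) : (⟨Golay.gperm s, gperm_mem hs⟩ : Spor.M22) ∈ S0 :=
  Subgroup.mem_map_of_mem _ (Subgroup.subset_closure ⟨s, gens_eq.symm ▸ hs, rfl⟩)

/-- Functions fixed by the 2-subgroup are constant on its five orbits. -/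
theorem sum_of_fixed {Z : GolayPt → ℤ} (hZ : ∀ s ∈ gens, ∀ i, Z (Golay.gperm s i) = Z i) :
    ∃ a b c d e : ℤ, a = Z none ∧ b = Z (some 0) ∧
      ∀ (u : GolayPt → ℤ) (φ : ℤ → ℤ) (x y z : ℤ), u none = x → u (some 0) = y →
        (∀ i, i ≠ none → i ≠ some 0 → u i = z) →
        ∑ i, u i * φ (Z i) =
          x * φ a + y * φ b + z * (2 * φ c + 4 * φ d + 16 * φ e) := by
  have edge : ∀ (k i j : ℕ), (Nat.ble (k + 1) 4 && Nat.ble (i + 1) 24 &&
      Nat.beq (Computation.getW 5 (gens.getD k 0) i) j) = true →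
      Z (Golay.pt j) = Z (Golay.pt i) := by
    intro k i j h
    simp only [Bool.and_eq_true, Nat.ble_eq, Nat.beq_eq] at h
    obtain ⟨⟨hk, hi⟩, hij⟩ := h
    have hs : gens.getD k 0 ∈ gens := by
      rw [List.getD_eq_getElem _ _ (show k < gens.length by simp [gens]; omega)]
      exact List.getElem_mem _
    have hok := Golay.okCode_of_inM24 (by
      have h := List.all_eq_true.mp gens_ok _ hs
      simp only [memPts, Bool.and_eq_true] at h
      exact h.1)
    rw [← hij, ← hZ _ hs (Golay.pt i), Golay.gperm_apply hok, Golay.imgCode,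
      Golay.idx_pt (by omega)]
  refine ⟨Z (Golay.pt 23), Z (Golay.pt 0), Z (Golay.pt 8), Z (Golay.pt 1), Z (Golay.pt 3), rfl,
    rfl, fun u φ x y z hx hy hz => ?_⟩
  have e12 : Z (Golay.pt 12) = Z (Golay.pt 8) := (edge 0 8 12 (by decide +kernel))
  have e2 : Z (Golay.pt 2) = Z (Golay.pt 1) := (edge 1 1 2 (by decide +kernel))
  have e11 : Z (Golay.pt 11) = Z (Golay.pt 1) := (edge 0 2 11 (by decide +kernel)).trans e2
  have e18 : Z (Golay.pt 18) = Z (Golay.pt 1) := (edge 1 2 18 (by decide +kernel)).trans e2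
  have e19 : Z (Golay.pt 19) = Z (Golay.pt 3) := (edge 1 3 19 (by decide +kernel))
  have e17 : Z (Golay.pt 17) = Z (Golay.pt 3) := (edge 2 3 17 (by decide +kernel))
  have e4 : Z (Golay.pt 4) = Z (Golay.pt 3) := (edge 3 3 4 (by decide +kernel))
  have e7 : Z (Golay.pt 7) = Z (Golay.pt 3) := (edge 1 19 7 (by decide +kernel)).trans e19
  have e20 : Z (Golay.pt 20) = Z (Golay.pt 3) := (edge 3 19 20 (by decide +kernel)).trans e19
  have e22 : Z (Golay.pt 22) = Z (Golay.pt 3) := (edge 3 17 22 (by decide +kernel)).trans e17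
  have e14 : Z (Golay.pt 14) = Z (Golay.pt 3) := (edge 0 4 14 (by decide +kernel)).trans e4
  have e21 : Z (Golay.pt 21) = Z (Golay.pt 3) := (edge 1 4 21 (by decide +kernel)).trans e4
  have e10 : Z (Golay.pt 10) = Z (Golay.pt 3) := (edge 3 7 10 (by decide +kernel)).trans e7
  have e5 : Z (Golay.pt 5) = Z (Golay.pt 3) := (edge 0 20 5 (by decide +kernel)).trans e20
  have e6 : Z (Golay.pt 6) = Z (Golay.pt 3) := (edge 1 20 6 (by decide +kernel)).trans e20
  have e13 : Z (Golay.pt 13) = Z (Golay.pt 3) := (edge 3 14 13 (by decide +kernel)).trans e14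
  have e15 : Z (Golay.pt 15) = Z (Golay.pt 3) := (edge 3 21 15 (by decide +kernel)).trans e21
  have e16 : Z (Golay.pt 16) = Z (Golay.pt 3) := (edge 3 5 16 (by decide +kernel)).trans e5
  have e9 : Z (Golay.pt 9) = Z (Golay.pt 3) := (edge 3 6 9 (by decide +kernel)).trans e6
  have hu : ∀ i : ℕ, 0 < i → i < 23 → u (Golay.pt i) = z := fun i h1 h2 => by
    refine hz _ (fun h => ?_) (fun h => ?_) <;> have := congrArg Golay.idx h <;>
      rw [Golay.idx_pt (by omega)] at this
    · exact absurd this (by rw [show Golay.idx none = 23 from rfl]; omega)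
    · exact absurd this (by rw [show Golay.idx (some (0 : ZMod 23)) = 0 from rfl]; omega)
  rw [← Equiv.sum_comp Golay.ptEquiv]
  simp only [Fin.sum_univ_succ, Fin.sum_univ_zero, Golay.ptEquiv_apply]
  simp only [Fin.val_succ, Fin.val_zero, Nat.reduceAdd]
  rw [show u (Golay.pt 23) = x from hx, show u (Golay.pt 0) = y from hy]
  simp only [hu 1 (by decide) (by decide), hu 2 (by decide) (by decide), hu 3 (by decide) (by decide), hu 4 (by decide) (by decide), hu 5 (by decide) (by decide), hu 6 (by decide) (by decide), hu 7 (by decide) (by decide), hu 8 (by decide) (by decide), hu 9 (by decide) (by decide), hu 10 (by decide) (by decide), hu 11 (by decide) (by decide), hu 12 (by decide) (by decide), hu 13 (by decide) (by decide), hu 14 (by decide) (by decide), hu 15 (by decide) (by decide), hu 16 (by decide) (by decide), hu 17 (by decide) (by decide), hu 18 (by decide) (by decide), hu 19 (by decide) (by decide), hu 20 (by decide) (by decide), hu 21 (by decide) (by decide), hu 22 (by decide) (by decide),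 e12, e2, e11, e18, e19, e17, e4, e7, e20, e22, e14,
    e21, e10, e5, e6, e13, e15, e16, e9]
  ring

theorem quad {t d e : ℤ}
    (h : 2 * t ^ 2 - 16 * t + 8 * (t - d - 4 * e) ^ 2 + 4 * d ^ 2 + 16 * e ^ 2 = 0) : t = 0 := by
  have ht : 0 ≤ t ∧ t ≤ 8 := by
    constructor <;> nlinarith [sq_nonneg (t - d - 4 * e), sq_nonneg d, sq_nonneg e]
  have hd : -3 < d ∧ d < 3 := by
    constructor <;> nlinarith [sq_nonneg (t - d - 4 * e), sq_nonneg (t - 4), sq_nonneg e]
  have he : -2 < e ∧ e < 2 := by
    constructor <;> nlinarith [sq_nonneg (t - d - 4 * e), sq_nonneg (t - 4), sq_nonneg d]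
  obtain ⟨ht1, ht2⟩ := ht
  obtain ⟨hd1, hd2⟩ := hd
  obtain ⟨he1, he2⟩ := he
  interval_cases t <;> interval_cases d <;> interval_cases e <;> omega

/-- The coordinate vectors are determined by their products with the two defining vectors. -/
theorem eightE_of_fixed {P : Sylow 2 Spor.M22} {y : leechLattice}
    (hy : ∀ p ∈ (P : Subgroup Spor.M22), ∀ i, vec y ((p : Equiv.Perm GolayPt) i) = vec y i)
    (hn : sqNorm (vec y) = 64) (hu : dotInt Spor.vecU (vec y) = 32) :
    (dotInt Spor.vecV (vec y) = -40 → y = eightE none) ∧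
      (dotInt Spor.vecV (vec y) = -8 → y = eightE (some 0)) := by
  obtain ⟨P1, hP1⟩ := S0_isPGroup.exists_le_sylow
  obtain ⟨h, rfl⟩ := MulAction.exists_smul_eq Spor.M22 P1 P
  set π : Equiv.Perm GolayPt := (h : Equiv.Perm GolayPt) with hπ
  have hπn : π none = none := h.2.1.2
  have hπ0 : π (some 0) = some 0 := h.2.2
  have hZ : ∀ s ∈ gens, ∀ i, vec y (π (Golay.gperm s i)) = vec y (π i) := by
    intro s hs i
    have hm : h * ⟨Golay.gperm s, gperm_mem hs⟩ * h⁻¹ ∈
        ((h • P1 : Sylow 2 Spor.M22) : Subgroup Spor.M22) := by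
      rw [Sylow.coe_subgroup_smul]
      exact ⟨_, hP1 (mem_S0 hs), rfl⟩
    simpa [π, Equiv.Perm.mul_apply] using hy _ hm (π i)
  have hpick : ∀ i, i ≠ none → i ≠ some 0 → π i ≠ none ∧ π i ≠ some 0 := fun i h1 h2 =>
    ⟨fun e => h1 (π.injective (e.trans hπn.symm)), fun e => h2 (π.injective (e.trans hπ0.symm))⟩
  obtain ⟨a, b, c, d, e, ha, hb, hsum⟩ :=
    sum_of_fixed (Z := fun i => vec y (π i)) hZ
  have hsq := hsum (fun _ => 1) (fun t => t ^ 2) 1 1 1 rfl rfl fun _ _ _ => rfl
  have hdu := hsum (fun i => Spor.vecU (π i)) id 4 4 0 (by simp [hπn, Spor.vecU])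
    (by simp [hπ0, Spor.vecU])
    (fun i h1 h2 => by simp [Spor.vecU, (hpick i h1 h2).1, (hpick i h1 h2).2])
  have hdv := hsum (fun i => Spor.vecV (π i)) id (-5) (-1) (-1) (by simp [hπn, Spor.vecV])
    (by simp [hπ0, Spor.vecV])
    (fun i h1 h2 => by simp [Spor.vecV, (hpick i h1 h2).1])
  simp only [id, one_mul] at hsq hdu hdv
  rw [Equiv.sum_comp π (fun i => vec y i ^ 2), show ∑ i, vec y i ^ 2 = 64 from hn] at hsq
  rw [Equiv.sum_comp π (fun i => Spor.vecU i * vec y i),
    show ∑ i, Spor.vecU i * vec y i = 32 from hu] at hdu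
  rw [Equiv.sum_comp π (fun i => Spor.vecV i * vec y i)] at hdv
  rw [hπn] at ha
  rw [hπ0] at hb
  have fin : ∀ i, vec y i = 8 → y = eightE i := fun i h8 => by
    rcases eq_single_of_eight hn (Or.inl h8) with h | h
    · exact h
    · rw [h] at h8
      simp [eightE, vec] at h8
  have hb' : b = 8 - a := by linarith
  subst hb'
  refine ⟨fun hv => fin none ?_, fun hv => fin (some 0) ?_⟩ <;>
    rw [show ∑ i, Spor.vecV i * vec y i = _ from hv] at hdv
  · have hc : c = 16 - 2 * a - 2 * d - 8 * e := by linarith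
    subst hc
    have := quad (t := 8 - a) (d := d) (e := e) (by linarith)
    omega
  · have hc : c = -2 * a - 2 * d - 8 * e := by linarith
    subst hc
    have := quad (t := a) (d := -d) (e := -e) (by linarith)
    omega

/-- The normalizer of the image of a Sylow 2-subgroup lies in the monomial copy. -/
theorem normalizer_le_range (P : Sylow 2 Spor.M22) :
    Subgroup.normalizer (((P : Subgroup Spor.M22).map emb : Subgroup H) : Set H) ≤ emb.range := by
  intro n hn
  have key : ∀ j : GolayPt, (j = none ∨ j = some 0) → ∀ p ∈ (P : Subgroup Spor.M22), ∀ i,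
      vec ((n : Co0) • eightE j) ((p : Equiv.Perm GolayPt) i) = vec ((n : Co0) • eightE j) i := by
    intro j hj p hp i
    obtain ⟨q, hq, e⟩ : n⁻¹ * emb p * n ∈ (P : Subgroup Spor.M22).map emb :=
      (Subgroup.mem_normalizer_iff''.mp hn (emb p)).mp (Subgroup.mem_map_of_mem emb hp)
    have hqj : (emb q : Co0) • eightE j = eightE j := by
      show permHom _ • eightE j = eightE j
      rw [permHom_eightE]
      rcases hj with rfl | rfl
      · exact congrArg eightE q.2.1.2
      · exact congrArg eightE q.2.2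
    have h : (emb p : Co0) • ((n : Co0) • eightE j) = (n : Co0) • eightE j := by
      have he := congrArg Subtype.val e
      simp only [Subgroup.coe_mul, Subgroup.coe_inv] at he
      rw [← mul_smul, show (emb p : Co0) * n = n * ((n : Co0)⁻¹ * emb p * n) by group, ← he,
        mul_smul, hqj]
    have h' := congrFun (congrArg vec h) ((p : Equiv.Perm GolayPt) i)
    change vec (permHom _ • _) _ = _ at h'
    rw [permHom_apply, Equiv.symm_apply_apply] at h'
    exact h'.symm
  have hdot : ∀ (w : leechLattice), (n : Co0) • w = w → ∀ j : GolayPt,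
      dotInt (vec w) (vec ((n : Co0) • eightE j)) = 8 * vec w j := by
    intro w hw j
    conv_lhs => rw [← hw]
    rw [dot_smul]
    simp only [dotInt, eightE, vec]
    rw [Finset.sum_eq_single j (fun i _ hi => by rw [Pi.single_eq_of_ne hi, mul_zero])
      (fun h => absurd (Finset.mem_univ _) h), Pi.single_eq_same, mul_comm]
  have hfix : ∀ j : GolayPt, (j = none ∨ j = some 0) → (n : Co0) • eightE j = eightE j := by
    intro j hj
    have hu := hdot _ n.2.2 j
    have hv := hdot _ n.2.1 j
    obtain ⟨h1, h2⟩ := eightE_of_fixed (key j hj) (by rw [norm_smul', sqNorm_eightE]) (by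
      refine Eq.trans hu ?_
      rcases hj with rfl | rfl <;> rfl)
    rcases hj with rfl | rfl
    · exact h1 (hv.trans rfl)
    · exact h2 (hv.trans rfl)
  obtain ⟨σ, hσ, c, hc, hn'⟩ :=
    exists_monomial (axis_of_one (i := none) (j := none) (Or.inl (hfix none (Or.inl rfl))))
  have hσj : ∀ j : GolayPt, (j = none ∨ j = some 0) → σ j = j := by
    intro j hj
    have h := hfix j hj
    rw [hn', monomial_apply_eightE] at h
    split_ifs at h
    · exact eightE_inj (Or.inr (by rw [← h, neg_neg]))
    · exact eightE_inj (Or.inl h)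
  have hv : monomial σ hσ c hc • Spor.leechV = Spor.leechV := hn' ▸ n.2.1
  have hsub : c ⊆ {none} := by
    intro i hi
    rw [Finset.mem_singleton]
    by_contra hne
    have h1 := congrFun (congrArg vec hv) i
    have h2 : σ.symm i ≠ none := by
      rw [ne_eq, Equiv.symm_apply_eq, hσj none (Or.inl rfl)]; exact hne
    rw [monomial_smul] at h1
    simp [signedPerm, hi, Spor.leechV, Spor.vecV, vec, h2, hne] at h1
  have hc0 : c = ∅ := by
    have h1 := Finset.card_le_card hsub
    rw [Finset.card_singleton] at h1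
    have := hc.weights
    exact Finset.card_eq_zero.mp (by omega)
  subst hc0
  exact ⟨⟨σ, ⟨hσ, hσj none (Or.inl rfl)⟩, hσj (some 0) (Or.inr rfl)⟩, Subtype.ext hn'.symm⟩

/-- Simplicity for every group isomorphic to the defined one. -/
theorem fusion_isSimple {G : Type*} [Group G] [Finite G] (hG : Spor.IsoMcL G) (S : Sylow 2 G) :
    (groupFusionSystem (S : Subgroup G)).IsSimple 2 := by
  haveI : Fact (Nat.Prime 2) := ⟨Nat.prime_two⟩
  haveI : Finite H := Nat.finite_of_card_ne_zero (by rw [card_H]; norm_num)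
  obtain ⟨e0⟩ := hG
  obtain ⟨m⟩ := model_M22
  obtain ⟨P, hne, hNA, hcl⟩ := sylow_facts Cert.m22_cert m
  let e : H ≃* G := equiv.trans e0.symm
  refine isSimple_of_embedded (e.toMonoidHom.comp emb) (e.injective.comp emb_injective) ?_ P hne
    hNA ?_ hcl S
  · rw [factorization_eq, Nat.card_congr e.toEquiv]
  · rw [← Subgroup.map_map, ← Subgroup.map_equiv_normalizer_eq, MonoidHom.range_comp]
    exact Subgroup.map_mono (normalizer_le_range P)

end Cfsg.Agent.Lib.MathieuFusion.McL
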