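import Cfsg.Agent.Lib.FusionAlperin.Simple
import Cfsg.Agent.Lib.PGroups.Omega
import Cfsg.Prelude.Def_FusionComponents

/-!
# Simplicity of a group fusion system with a self-normalizing Sylow subgroup
-/

set_option autoImplicit false

namespace Cfsg.Agent.Lib.MathieuFusion

open Cfsg Cfsg.FusionSystem Cfsg.Agent.Lib.FS

variable {G : Type*} [Group G] {p : ℕ} [Fact p.Prime]

/-- `T` is closed under the conjugations staying inside `S`. -/
def ConjClosed (S T : Subgroup G) : Prop :=
  ∀ x ∈ T, ∀ g : G, g * x * g⁻¹ ∈ S → g * x * g⁻¹ ∈ T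

theorem conjClosed_of_stronglyClosed {S T : Subgroup G}
    (h : (groupFusionSystem S).StronglyClosed T) : ConjClosed S T := by
  intro x hx g hg
  have hle : Subgroup.zpowers x ≤ T := Subgroup.zpowers_le.mpr hx
  have hconj : ∀ y ∈ Subgroup.zpowers x, g * y * g⁻¹ ∈ S := by
    intro y hy
    obtain ⟨k, rfl⟩ := Subgroup.mem_zpowers_iff.mp hy
    rw [← conj_zpow]
    exact S.zpow_mem hg k
  exact h.2 _ hle (conjHom (Subgroup.zpowers x) g) (conjHom_mem_group (hle.trans h.1) hconj)
    ⟨x, Subgroup.mem_zpowers x⟩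

/-- A self-normalizing Sylow subgroup without proper closed subgroups: the system is simple. -/
theorem isSimple_of_selfNormalizing [Finite G] (P : Sylow p G) (hne : (P : Subgroup G) ≠ ⊥)
    (hN : Subgroup.normalizer ((P : Subgroup G) : Set G) ≤ (P : Subgroup G))
    (hsc : ∀ T : Subgroup G, T ≤ (P : Subgroup G) → ConjClosed (P : Subgroup G) T →
      T = ⊥ ∨ T = (P : Subgroup G)) :
    (groupFusionSystem (P : Subgroup G)).IsSimple p := by
  refine FusionAlperin.Simple.isSimple_group P hne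
    (fun T hT => hsc T hT.1 (conjClosed_of_stronglyClosed hT)) {(P : Subgroup G)} ?_ ?_
  · rintro R rfl
    constructor
    · refine ⟨le_rfl, fun Q _ => Subgroup.card_le_of_le fun x hx => ⟨hx.1, ?_⟩⟩
      exact Subgroup.le_normalizer hx.1
    · refine ⟨le_rfl, fun Q hQ => ?_⟩
      obtain ⟨-, hQP, g, rfl⟩ := group_isConj_iff.mp hQ
      have : (P : Subgroup G).map (MulAut.conj g).toMonoidHom = (P : Subgroup G) :=
        Subgroup.eq_of_le_of_card_ge hQP
          (by rw [Subgroup.card_map_of_injective (MulEquiv.injective _)])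
      rw [this]
      exact inf_le_left
  · intro α hα
    obtain ⟨g, -, hg⟩ := mem_autInducedBy.1 hα
    refine Subgroup.mem_iSup_of_mem (P : Subgroup G)
      (Subgroup.mem_iSup_of_mem rfl (mem_autInducedBy.2 ⟨g, ?_, hg⟩))
    have hgN : g ∈ Subgroup.normalizer ((P : Subgroup G) : Set G) := by
      have hmem : ∀ x ∈ (P : Subgroup G), g * x * g⁻¹ ∈ (P : Subgroup G) := fun x hx => by
        rw [← hg ⟨x, hx⟩]; exact (α ⟨x, hx⟩).2
      exact mem_normalizer_of_conj_mem hmem
    refine Subgroup.subset_closure ⟨hgN, ?_⟩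
    obtain ⟨k, hk⟩ := (IsPGroup.iff_orderOf.mp P.isPGroup') ⟨g, hN hgN⟩
    exact ⟨k, by rw [← hk, Subgroup.orderOf_mk]⟩

end Cfsg.Agent.Lib.MathieuFusion
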