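import Cfsg.Agent.Lib.Computation.PermCode
import Cfsg.Agent.Lib.MathieuFusion.Criterion

/-!
# Kernel-checked certificates for the Sylow 2-subgroup of a group of permutations of 24 indices

Everything works with stabiliser-chain certificates (`Lib.Computation`) for the group and for the
2-subgroup.  `centreOk` pins down the centre, `searchNormalizer` shows that the 2-subgroup is its
own normalizer (using that a normalizing element commutes with the central involution), and
`closedOk` derives the generators from the central involution by conjugations and products.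
-/

set_option autoImplicit false
set_option linter.style.haveILetI false

namespace Cfsg.Agent.Lib.MathieuFusion

open Cfsg Cfsg.Agent.Lib.Computation

/-- The representation used. -/
noncomputable abbrev R24 := permRep 24 5 (by decide)

/-- The code of the identity. -/
def oneP : ℕ := packW 5 (fun x => x) 24

theorem oneP_ok : okPerm 24 5 oneP = true := by decide +kernel

theorem decodeP_oneP : decodeP 24 5 oneP = 1 := R24.val_one

theorem packW_congr {w : ℕ} {f g : ℕ → ℕ} : ∀ {k : ℕ}, (∀ x < k, f x = g x) →
    packW w f k = packW w g k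
  | 0, _ => rfl
  | k + 1, h => by
    rw [packW_succ, packW_succ, h k k.lt_succ_self,
      packW_congr fun x hx => h x (hx.trans k.lt_succ_self)]

theorem mulP_eq_of_decode {a b c d : ℕ} (ha : okPerm 24 5 a = true) (hb : okPerm 24 5 b = true)
    (hc : okPerm 24 5 c = true) (hd : okPerm 24 5 d = true)
    (h : decodeP 24 5 a * decodeP 24 5 b = decodeP 24 5 c * decodeP 24 5 d) :
    mulP 24 5 a b = mulP 24 5 c d := by
  simp only [mulP, forceNat_eq]
  refine packW_congr fun x hx => ?_
  have h' := congrArg Fin.val (Equiv.congr_fun h ⟨x, hx⟩)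
  simpa [decodeP_apply, ha, hb, hc, hd] using h'

/-- `f` holds for a code of `a * g`, for every element `g` of the chain. -/
def allChain (f : ℕ → Bool) : List (Level ℕ) → ℕ → Bool
  | [], a => f a
  | L :: c, a => L.orb.toList.all fun e =>
      forceNat (mulP 24 5 a e.fwd) fun a' => allChain f c a'

theorem allChain_spec {f : ℕ → Bool} : ∀ {c : List (Level ℕ)}, R24.checkChain c = true →
    ∀ {a : ℕ}, okPerm 24 5 a = true → allChain f c a = true → ∀ g ∈ R24.grp c,
      ∃ a', okPerm 24 5 a' = true ∧ decodeP 24 5 a' = decodeP 24 5 a * g ∧ f a' = true := by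
  intro c
  induction c with
  | nil =>
    intro _ a ha h g hg
    rw [R24.grp_nil, Subgroup.mem_bot] at hg
    exact ⟨a, ha, by rw [hg, mul_one], h⟩
  | cons L rest ih =>
    intro hc a ha h g hg
    obtain ⟨e, he, k, hk, rfl⟩ := R24.decomp hc hg
    have hok : okPerm 24 5 e.fwd = true := (R24.levelFacts hc).fwd_ok e he
    have h' := List.all_eq_true.mp h e he
    rw [forceNat_eq] at h'
    obtain ⟨a', h1, h2, h3⟩ := ih (R24.checkChain_tail hc) (okPerm_mulP ha hok) h' k hk
    exact ⟨a', h1, by rw [h2, decodeP_mulP ha hok, mul_assoc], h3⟩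

/-- The centre of the chain consists of `one` and `z`. -/
noncomputable def centreOk (cS : List (Level ℕ)) (z : ℕ) : Bool :=
  allChain (fun a =>
    !((R24.topGens cS).all fun s => Nat.beq (mulP 24 5 a s) (mulP 24 5 s a)) ||
      Nat.beq a oneP || Nat.beq a z) cS oneP

theorem centre_spec {cS : List (Level ℕ)} (hc : R24.checkChain cS = true) {z : ℕ}
    (h : centreOk cS z = true) {x : Equiv.Perm (Fin 24)} (hx : x ∈ R24.grp cS)
    (hcomm : ∀ y ∈ R24.grp cS, x * y = y * x) : x = 1 ∨ x = decodeP 24 5 z := by
  obtain ⟨a, ha, hax, hf⟩ := allChain_spec hc oneP_ok h x hx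
  rw [decodeP_oneP, one_mul] at hax
  simp only [Bool.or_eq_true, Bool.not_eq_true', Nat.beq_eq] at hf
  rcases hf with (hf | rfl) | rfl
  · exfalso
    obtain ⟨s, hs, hne⟩ := List.all_eq_false.mp hf
    apply hne
    rw [Nat.beq_eq]
    refine mulP_eq_of_decode ha (R24.topGens_ok hc hs) (R24.topGens_ok hc hs) ha ?_
    rw [hax]
    exact hcomm _ (R24.val_mem_grp hs)
  · exact Or.inl (hax ▸ decodeP_oneP)
  · exact Or.inr hax.symm

/-- Some point refutes membership of `h` in the chain. -/
noncomputable def fails (c : List (Level ℕ)) (h : ℕ) : Bool :=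
  (List.range 24).any fun x => R24.siftFail c h x

/-- The condition on the image `y` of a base point: `cnd < 24` says `y = z (image number cnd)`,
`24` says that `z` moves `y`, larger values say nothing. -/
def imgOk (z cnd : ℕ) (ims : List ℕ) (y : ℕ) : Bool :=
  bif Nat.blt cnd 24 then
    (match ims[cnd]? with
      | some v => Nat.beq y (getW 5 z v)
      | none => false)
  else bif Nat.beq cnd 24 then !(Nat.beq (getW 5 z y) y) else true

/-- The base points satisfy the conditions. -/
def baseOk (z : ℕ) : List ℕ → List ℕ → List ℕ → Bool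
  | [], [], _ => true
  | b :: bs, cnd :: cs, done => imgOk z cnd done b && baseOk z bs cs (done ++ [b])
  | _, _, _ => false

/-- Every element of the chain commuting with `z` either moves a generator of the 2-subgroup out
of it or lies in it. -/
noncomputable def search (cS : List (Level ℕ)) (z : ℕ) :
    List (Level ℕ) → List ℕ → ℕ → ℕ → List ℕ → Bool
  | [], _, a, ai, _ =>
      ((R24.topGens cS).any fun s => fails cS (mulP 24 5 a (mulP 24 5 s ai))) || R24.sift cS a
  | _ :: _, [], _, _, _ => false
  | L :: c, cnd :: cs, a, ai, ims => L.orb.toList.all fun e =>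
      forceNat (getW 5 a e.point) fun y =>
        bif imgOk z cnd ims y then
          forceNat (mulP 24 5 a e.fwd) fun a' => forceNat (mulP 24 5 e.bwd ai) fun ai' =>
            search cS z c cs a' ai' (ims ++ [y])
        else true

theorem imgOk_map {z cnd : ℕ} (hzok : okPerm 24 5 z = true) {n : Equiv.Perm (Fin 24)}
    (hn : n * decodeP 24 5 z = decodeP 24 5 z * n) {done : List ℕ} {b : ℕ} (hb : b < 24)
    (hdone : ∀ v ∈ done, v < 24) (h : imgOk z cnd done b = true) :
    imgOk z cnd (done.map fun v => (n (Fin.ofNat 24 v) : ℕ)) (n (Fin.ofNat 24 b)) = true := by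
  have hz : ∀ i : Fin 24, getW 5 z (n i) = (n (decodeP 24 5 z i) : ℕ) := fun i => by
    rw [← decodeP_apply hzok (n i)]
    exact congrArg Fin.val (Equiv.congr_fun hn i).symm
  have hval : ∀ {v : ℕ}, v < 24 → ((Fin.ofNat 24 v : Fin 24) : ℕ) = v := fun hv => by
    simp [Nat.mod_eq_of_lt hv]
  unfold imgOk at h ⊢
  cases hlt : Nat.blt cnd 24 with
  | true =>
    simp only [hlt, cond_true] at h
    rw [cond_true]
    rw [List.getElem?_map]
    cases hv : done[cnd]? with
    | none => rw [hv] at h; exact absurd h (by simp)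
    | some v =>
      rw [hv] at h
      simp only [Option.map_some, Nat.beq_eq] at h ⊢
      have hv24 : v < 24 := hdone v (List.mem_of_getElem? hv)
      rw [hz]
      congr 2
      apply Fin.ext
      rw [decodeP_apply hzok, hval hb, hval hv24]
      exact h
  | false =>
    simp only [hlt, cond_false] at h
    rw [cond_false]
    cases he : Nat.beq cnd 24 with
    | true =>
      simp only [he, cond_true] at h
      rw [cond_true]
      simp only [Bool.not_eq_true', Bool.eq_false_iff, ne_eq, Nat.beq_eq] at h ⊢
      intro hcontra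
      apply h
      rw [hz] at hcontra
      have := congrArg Fin.val (n.injective (Fin.ext hcontra))
      rwa [decodeP_apply hzok, hval hb] at this
    | false => rfl

theorem search_spec {cS : List (Level ℕ)} {z : ℕ} (hS : R24.checkChain cS = true)
    (hzok : okPerm 24 5 z = true) {n : Equiv.Perm (Fin 24)}
    (hn : n * decodeP 24 5 z = decodeP 24 5 z * n)
    (hconj : ∀ s ∈ R24.grp cS, n * s * n⁻¹ ∈ R24.grp cS) :
    ∀ {c : List (Level ℕ)} {cs : List ℕ} {done : List ℕ} {a ai : ℕ},
      R24.checkChain c = true → baseOk z (c.map Level.base) cs done = true →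
      (∀ v ∈ done, v < 24) →
      okPerm 24 5 a = true → okPerm 24 5 ai = true →
      decodeP 24 5 ai = (decodeP 24 5 a)⁻¹ →
      search cS z c cs a ai (done.map fun v => (n (Fin.ofNat 24 v) : ℕ)) = true →
      ∀ g ∈ R24.grp c, decodeP 24 5 a * g = n → n ∈ R24.grp cS := by
  intro c
  induction c with
  | nil =>
    intro cs done a ai _ _ _ ha hai hinv h g hg hgn
    rw [R24.grp_nil, Subgroup.mem_bot] at hg
    rw [hg, mul_one] at hgn
    simp only [search, Bool.or_eq_true, List.any_eq_true] at h
    rcases h with ⟨s, hs, hf⟩ | h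
    · exfalso
      have hsok : okPerm 24 5 s = true := R24.topGens_ok hS hs
      simp only [fails, List.any_eq_true] at hf
      obtain ⟨x, -, hx⟩ := hf
      have hok := okPerm_mulP ha (okPerm_mulP hsok hai)
      refine R24.notMem_grp_of_siftFail hS hok hx ?_
      show decodeP 24 5 (mulP 24 5 a (mulP 24 5 s ai)) ∈ R24.grp cS
      rw [decodeP_mulP ha (okPerm_mulP hsok hai), decodeP_mulP hsok hai, hinv, hgn,
        ← mul_assoc]
      exact hconj _ (R24.val_mem_grp hs)
    · rw [← hgn]
      exact R24.mem_grp_of_sift hS ha h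
  | cons L rest ih =>
    intro cs done a ai hc hb hdone ha hai hinv h g hg hgn
    cases cs with
    | nil => simp [search] at h
    | cons cnd cs =>
      simp only [List.map_cons, baseOk, Bool.and_eq_true] at hb
      obtain ⟨e, he, k, hk, rfl⟩ := R24.decomp hc hg
      have F := R24.levelFacts hc
      have hfok : okPerm 24 5 e.fwd = true := F.fwd_ok e he
      have hbok : okPerm 24 5 e.bwd = true := F.bwd_ok e he
      have hbase : L.base < 24 := by
        have := F.ptOk_base
        simp only [Nat.blt, Nat.ble_eq] at this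
        exact this
      have hpt : e.point < 24 := by
        have := F.ptOk_point e he
        simp only [Nat.blt, Nat.ble_eq] at this
        exact this
      have hy : getW 5 a e.point = (n (Fin.ofNat 24 L.base) : ℕ) := by
        have h1 : (R24.val e.fwd * k) • R24.pt L.base = R24.pt e.point := by
          rw [mul_smul, R24.fix_base hc hk, R24.fwd_smul_base hc he]
        rw [← hgn, Equiv.Perm.mul_apply]
        change _ = ((decodeP 24 5 a) ((R24.val e.fwd * k) • R24.pt L.base) : ℕ)
        rw [h1, decodeP_apply ha]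
        simp [Nat.mod_eq_of_lt hpt]
      have h' := List.all_eq_true.mp h e he
      rw [forceNat_eq, hy, imgOk_map hzok hn hbase hdone hb.1, cond_true, forceNat_eq,
        forceNat_eq] at h'
      refine ih (cs := cs) (done := done ++ [L.base]) (R24.checkChain_tail hc) hb.2 ?_
        (okPerm_mulP ha hfok) (okPerm_mulP hbok hai) ?_ ?_ k hk ?_
      · intro v hv
        rcases List.mem_append.mp hv with hv | hv
        · exact hdone v hv
        · rw [List.mem_singleton.mp hv]; exact hbase
      · rw [decodeP_mulP hbok hai, decodeP_mulP ha hfok, mul_inv_rev, hinv,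
          show decodeP 24 5 e.bwd = (decodeP 24 5 e.fwd)⁻¹ from F.bwd_eq e he]
      · rw [List.map_append]
        exact h'
      · rw [decodeP_mulP ha hfok, mul_assoc]
        exact hgn

/-- One step of a closure derivation: `(0, i, j, _)` is a product, `(1, i, g, g')` the conjugate of
element `i` by `g` (with inverse `g'`). -/
noncomputable def closedRun (cG cS : List (Level ℕ)) : List (ℕ × ℕ × ℕ × ℕ) → List ℕ → Bool
  | [], known => (R24.topGens cS).all fun s => known.any fun t => Nat.beq t s
  | (0, i, j, _) :: l, known =>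
      match known[i]?, known[j]? with
      | some x, some y => forceNat (mulP 24 5 x y) fun w => closedRun cG cS l (known ++ [w])
      | _, _ => false
  | (_ + 1, i, g, gi) :: l, known =>
      match known[i]? with
      | some x =>
          okPerm 24 5 g && okPerm 24 5 gi && R24.sift cG g &&
            Nat.beq (mulP 24 5 g gi) oneP &&
            forceNat (mulP 24 5 g (mulP 24 5 x gi)) fun w =>
              R24.sift cS w && closedRun cG cS l (known ++ [w])
      | none => false

theorem closedRun_spec {cG cS : List (Level ℕ)} (hG : R24.checkChain cG = true)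
    (hS : R24.checkChain cS = true) {T : Subgroup (Equiv.Perm (Fin 24))}
    (hT : ∀ x ∈ T, ∀ g ∈ R24.grp cG, g * x * g⁻¹ ∈ R24.grp cS → g * x * g⁻¹ ∈ T) :
    ∀ {l : List (ℕ × ℕ × ℕ × ℕ)} {known : List ℕ},
      (∀ x ∈ known, okPerm 24 5 x = true ∧ decodeP 24 5 x ∈ T) →
      closedRun cG cS l known = true → R24.grp cS ≤ T := by
  intro l
  induction l with
  | nil =>
    intro known hk h
    simp only [closedRun, List.all_eq_true, List.any_eq_true, Nat.beq_eq] at h
    rw [Rep.grp, Subgroup.closure_le]
    rintro _ ⟨s, hs, rfl⟩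
    obtain ⟨t, ht, rfl⟩ := h s hs
    exact (hk t ht).2
  | cons st l ih =>
    intro known hk h
    obtain ⟨op, i, j, gi⟩ := st
    cases op with
    | zero =>
      cases hi : known[i]? with
      | none => simp [closedRun, hi] at h
      | some x =>
        cases hj : known[j]? with
        | none => simp [closedRun, hi, hj] at h
        | some y =>
          simp only [closedRun, hi, hj, forceNat_eq] at h
          refine ih (fun w hw => ?_) h
          rcases List.mem_append.mp hw with hw | hw
          · exact hk w hw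
          · obtain ⟨hx, hxT⟩ := hk x (List.mem_of_getElem? hi)
            obtain ⟨hy, hyT⟩ := hk y (List.mem_of_getElem? hj)
            rw [List.mem_singleton.mp hw]
            exact ⟨okPerm_mulP hx hy, by rw [decodeP_mulP hx hy]; exact T.mul_mem hxT hyT⟩
    | succ _ =>
      cases hi : known[i]? with
      | none => simp [closedRun, hi] at h
      | some x =>
        simp only [closedRun, hi, forceNat_eq, Bool.and_eq_true, Nat.beq_eq] at h
        obtain ⟨⟨⟨⟨hg, hgi⟩, hgG⟩, hone⟩, hw, hrest⟩ := h
        obtain ⟨hx, hxT⟩ := hk x (List.mem_of_getElem? hi)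
        have hinv : decodeP 24 5 gi = (decodeP 24 5 j)⁻¹ := by
          refine eq_inv_of_mul_eq_one_right ?_
          rw [← decodeP_mulP hg hgi, hone, decodeP_oneP]
        have hval : decodeP 24 5 (mulP 24 5 j (mulP 24 5 x gi)) =
            decodeP 24 5 j * decodeP 24 5 x * (decodeP 24 5 j)⁻¹ := by
          rw [decodeP_mulP hg (okPerm_mulP hx hgi), decodeP_mulP hx hgi, hinv, mul_assoc]
        refine ih (fun w hmem => ?_) hrest
        rcases List.mem_append.mp hmem with hmem | hmem
        · exact hk w hmem
        · rw [List.mem_singleton.mp hmem]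
          have hwok := okPerm_mulP hg (okPerm_mulP hx hgi)
          have hwS : decodeP 24 5 (mulP 24 5 j (mulP 24 5 x gi)) ∈ R24.grp cS :=
            R24.mem_grp_of_sift hS hwok hw
          refine ⟨hwok, ?_⟩
          rw [hval] at hwS ⊢
          exact hT _ hxT _ (R24.mem_grp_of_sift hG hg hgG) hwS

/-- The normalizer search, after moving the image of the first base point back when the 2-subgroup
is transitive on the points moved by `z` (`anchor`). -/
noncomputable def normOk (cS : List (Level ℕ)) (z : ℕ) (cG : List (Level ℕ)) (conds : List ℕ) :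
    Bool → Bool
  | false => baseOk z (cG.map Level.base) conds [] && search cS z cG conds oneP oneP []
  | true =>
      match cG, cS, conds with
      | L :: rest, M :: _, cnd :: cs =>
          Nat.beq cnd 24 && imgOk z cnd [] L.base && Nat.beq M.base L.base &&
            ((List.range 24).all fun y =>
              Nat.beq (getW 5 z y) y || (M.orb.find y).isSome) &&
            baseOk z (rest.map Level.base) cs [L.base] &&
            search cS z rest cs oneP oneP [L.base]
      | _, _, _ => false

theorem normOk_spec {cG cS : List (Level ℕ)} {z : ℕ} {conds : List ℕ} {anchor : Bool}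
    (hG : R24.checkChain cG = true) (hS : R24.checkChain cS = true)
    (hle : R24.grp cS ≤ R24.grp cG) (hzok : okPerm 24 5 z = true)
    (hzc : ∀ y ∈ R24.grp cS, decodeP 24 5 z * y = y * decodeP 24 5 z)
    (h : normOk cS z cG conds anchor = true) {n : Equiv.Perm (Fin 24)} (hnG : n ∈ R24.grp cG)
    (hn : n * decodeP 24 5 z = decodeP 24 5 z * n)
    (hconj : ∀ s ∈ R24.grp cS, n * s * n⁻¹ ∈ R24.grp cS) : n ∈ R24.grp cS := by
  cases anchor with
  | false =>
    simp only [normOk, Bool.and_eq_true] at h
    exact search_spec hS hzok hn hconj hG h.1 (by simp) oneP_ok oneP_ok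
      (by rw [decodeP_oneP, inv_one]) h.2 n hnG (by rw [decodeP_oneP, one_mul])
  | true =>
    match cG, cS, conds, h with
    | [], _, _, h => simp [normOk] at h
    | L :: rest, [], _, h => simp [normOk] at h
    | L :: rest, M :: mrest, [], h => simp [normOk] at h
    | L :: rest, M :: mrest, cnd :: cs, h =>
      simp only [normOk, Bool.and_eq_true, List.all_eq_true, Bool.or_eq_true, Nat.beq_eq,
        List.mem_range] at h
      obtain ⟨⟨⟨⟨⟨hcnd, himg⟩, hMb⟩, hall⟩, hb⟩, hs⟩ := h
      subst hcnd
      have hbase : L.base < 24 := by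
        have := (R24.levelFacts hG).ptOk_base
        simp only [Nat.blt, Nat.ble_eq] at this
        exact this
      have hy := imgOk_map hzok hn hbase (done := []) (by simp) himg
      have hyz : getW 5 z (n (Fin.ofNat 24 L.base) : ℕ) ≠ (n (Fin.ofNat 24 L.base) : ℕ) := by
        intro hc
        simp only [imgOk, List.map_nil, show Nat.blt 24 24 = false from rfl,
          show Nat.beq 24 24 = true from rfl, cond_false, cond_true, hc,
          Bool.not_eq_true', Bool.eq_false_iff, ne_eq, Nat.beq_eq, not_true_eq_false] at hy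
      rcases hall (n (Fin.ofNat 24 L.base) : ℕ) (Fin.isLt _) with hfix | hfind
      · exact absurd hfix hyz
      obtain ⟨e, he⟩ := Option.isSome_iff_exists.mp hfind
      obtain ⟨hem, hep⟩ := Orbit.find_some he
      have hfwd : R24.val e.fwd ∈ R24.grp (M :: mrest) := R24.fwd_mem_grp hS hem
      have hmove : R24.val e.fwd • R24.pt M.base = n (Fin.ofNat 24 L.base) := by
        rw [R24.fwd_smul_base hS hem, hep]
        apply Fin.ext
        simp
      let n' := (R24.val e.fwd)⁻¹ * n
      have hn'G : n' ∈ R24.grp rest := by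
        rw [R24.mem_grp_tail_iff hG]
        refine ⟨Subgroup.mul_mem _ (Subgroup.inv_mem _ (hle hfwd)) hnG, ?_⟩
        rw [mul_smul, inv_smul_eq_iff, ← hMb, hmove, hMb]
        rfl
      suffices hn' : n' ∈ R24.grp (M :: mrest) by
        simpa [n'] using Subgroup.mul_mem _ hfwd hn'
      refine search_spec hS hzok ?_ ?_ (R24.checkChain_tail hG) hb
        (by intro v hv; rw [List.mem_singleton.mp hv]; exact hbase) oneP_ok oneP_ok
        (by rw [decodeP_oneP, inv_one]) ?_ n' hn'G (by rw [decodeP_oneP, one_mul])
      · have h1 := hzc _ (Subgroup.inv_mem _ hfwd)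
        show (R24.val e.fwd)⁻¹ * n * decodeP 24 5 z = decodeP 24 5 z * ((R24.val e.fwd)⁻¹ * n)
        rw [mul_assoc, hn, ← mul_assoc, ← h1, mul_assoc]
      · intro s hs'
        have := Subgroup.mul_mem _ (Subgroup.mul_mem _ (Subgroup.inv_mem _ hfwd) (hconj s hs')) hfwd
        simpa [n', mul_assoc] using this
      · have hfix : ((n' (Fin.ofNat 24 L.base)) : ℕ) = L.base := by
          have := ((R24.mem_grp_tail_iff hG).mp hn'G).2
          rw [Equiv.Perm.smul_def] at this
          exact (congrArg Fin.val this).trans (by simp [Nat.mod_eq_of_lt hbase])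
        rw [List.map_cons, List.map_nil, hfix]
        exact hs

theorem conjClosed_top_or_bot_aux {cG cS : List (Level ℕ)} {z : ℕ}
    {steps : List (ℕ × ℕ × ℕ × ℕ)} (hS : R24.checkChain cS = true)
    (hclosed : closedRun cG cS steps [z] = true) (hG : R24.checkChain cG = true)
    (hcen : centreOk cS z = true) (hzok : okPerm 24 5 z = true)
    {H : Subgroup (Equiv.Perm (Fin 24))} (_hH : H = R24.grp cG) (hle : R24.grp cS ≤ R24.grp cG)
    {T : Subgroup (Equiv.Perm (Fin 24))} (hT : T ≤ R24.grp cS)
    (hcl : ∀ x ∈ T, ∀ a ∈ R24.grp cG, a * x * a⁻¹ ∈ R24.grp cS → a * x * a⁻¹ ∈ T)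
    (hp : IsPGroup 2 (R24.grp cS)) : T = ⊥ ∨ T = R24.grp cS := by
  by_cases hb : T = ⊥
  · exact Or.inl hb
  refine Or.inr (le_antisymm hT ?_)
  haveI : Fact (Nat.Prime 2) := ⟨Nat.prime_two⟩
  refine closedRun_spec hG hS hcl (known := [z]) ?_ hclosed
  intro x hx
  rw [List.mem_singleton.mp hx]
  refine ⟨hzok, ?_⟩
  haveI : (T.subgroupOf (R24.grp cS)).Normal := ⟨fun x hx s => by
    rw [Subgroup.mem_subgroupOf] at hx ⊢
    exact hcl _ hx s (hle s.2) ((R24.grp cS).mul_mem ((R24.grp cS).mul_mem s.2 x.2)
      ((R24.grp cS).inv_mem s.2))⟩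
  have hne : T.subgroupOf (R24.grp cS) ≠ ⊥ := fun h => hb (by
    rw [← Subgroup.map_subgroupOf_eq_of_le hT, h, Subgroup.map_bot])
  obtain ⟨c, hc⟩ := Subgroup.ne_bot_iff_exists_ne_one.mp
    (PGroups.normal_inf_center_ne_bot hp _ hne)
  rcases centre_spec hS hcen (c : R24.grp cS).2 (fun y hy =>
      (congrArg Subtype.val (Subgroup.mem_center_iff.mp c.2.2 ⟨y, hy⟩)).symm) with h | h
  · exact absurd (Subtype.ext (Subtype.ext h)) hc
  · exact h ▸ c.2.1

/-- A complete certificate. -/
noncomputable def certOk (k : ℕ) (cG cS : List (Level ℕ)) (z : ℕ) (conds : List ℕ) (anchor : Bool)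
    (steps : List (ℕ × ℕ × ℕ × ℕ)) : Bool :=
  R24.checkChain cG && R24.checkChain cS && okPerm 24 5 z && R24.sift cS z &&
    ((R24.topGens cS).all fun s => Nat.beq (mulP 24 5 z s) (mulP 24 5 s z) && R24.sift cG s) &&
    Nat.beq (R24.order cS) (2 ^ k) &&
    Nat.beq (R24.order cG / 2 ^ k * 2 ^ k) (R24.order cG) &&
    Nat.beq (R24.order cG / 2 ^ k % 2) 1 && !(Nat.beq k 0) &&
    centreOk cS z && normOk cS z cG conds anchor && closedRun cG cS steps [z]

variable {G : Type*} [Group G] [Finite G] {k : ℕ} {cG cS : List (Level ℕ)} {z : ℕ}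
  {conds : List ℕ} {anchor : Bool} {steps : List (ℕ × ℕ × ℕ × ℕ)}

/-- What the certificate gives for an isomorphic copy of the group. -/
theorem sylow_facts (h : certOk k cG cS z conds anchor steps = true) (e : G ≃* R24.grp cG) :
    ∃ P : Sylow 2 G, (P : Subgroup G) ≠ ⊥ ∧
      Subgroup.normalizer ((P : Subgroup G) : Set G) ≤ (P : Subgroup G) ∧
      ∀ T : Subgroup G, T ≤ (P : Subgroup G) → ConjClosed (P : Subgroup G) T →
        T = ⊥ ∨ T = (P : Subgroup G) := by
  simp only [certOk, Bool.and_eq_true, List.all_eq_true, Nat.beq_eq, Bool.not_eq_true',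
    Bool.eq_false_iff, ne_eq] at h
  obtain ⟨⟨⟨⟨⟨⟨⟨⟨⟨⟨⟨hG, hS⟩, hzok⟩, hzS⟩, hgens⟩, hoS⟩, hdiv⟩, hodd⟩, hk⟩, hcen⟩, hsearch⟩, hclosed⟩ :=
    h
  let f : G →* Equiv.Perm (Fin 24) := (R24.grp cG).subtype.comp e.toMonoidHom
  have hfinj : Function.Injective f := Subtype.val_injective.comp e.injective
  have hrange : f.range = R24.grp cG := by
    rw [MonoidHom.range_comp, MonoidHom.range_eq_top.mpr e.surjective, ← MonoidHom.range_eq_map,
      Subgroup.range_subtype]
  have hle : R24.grp cS ≤ R24.grp cG := by
    rw [Rep.grp, Subgroup.closure_le]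
    rintro _ ⟨s, hs, rfl⟩
    exact R24.mem_grp_of_sift hG (R24.topGens_ok hS hs) (hgens s hs).2
  let S : Subgroup G := (R24.grp cS).comap f
  have hmapS : S.map f = R24.grp cS := Subgroup.map_comap_eq_self (hrange ▸ hle)
  have hcardS : Nat.card S = 2 ^ k := by
    rw [← Subgroup.card_map_of_injective hfinj (K := S), hmapS, R24.card_grp hS, hoS]
  have hcardG : Nat.card G = R24.order cG := by
    rw [Nat.card_congr e.toEquiv, R24.card_grp hG]
  haveI : Fact (Nat.Prime 2) := ⟨Nat.prime_two⟩
  have hfac : (Nat.card G).factorization 2 = k := by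
    rw [hcardG, ← hdiv]
    have h0 : R24.order cG / 2 ^ k ≠ 0 := fun h0 => by rw [h0] at hodd; simp at hodd
    rw [Nat.factorization_mul h0 (pow_ne_zero _ two_ne_zero), Finsupp.add_apply,
      Nat.Prime.factorization_pow Nat.prime_two, Finsupp.single_eq_same,
      Nat.factorization_eq_zero_of_not_dvd fun h2 => by omega, zero_add]
  let P : Sylow 2 G := Sylow.ofCard S (by rw [hfac]; exact hcardS)
  have hP : (P : Subgroup G) = S := rfl
  refine ⟨P, fun hb => ?_, fun g hg => ?_, fun T hT hcl => ?_⟩
  · rw [hP] at hb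
    rw [hb, Subgroup.card_bot] at hcardS
    exact absurd hcardS.symm (Nat.one_lt_two_pow hk).ne'
  · rw [hP] at hg ⊢
    change f g ∈ R24.grp cS
    have hzG : decodeP 24 5 z ∈ R24.grp cS := R24.mem_grp_of_sift hS hzok hzS
    have hnorm : ∀ s ∈ R24.grp cS, f g * s * (f g)⁻¹ ∈ R24.grp cS := by
      intro s hs
      rw [← hmapS] at hs
      obtain ⟨x, hx, rfl⟩ := hs
      rw [← map_inv, ← map_mul, ← map_mul]
      exact (Subgroup.mem_normalizer_iff.mp hg x).mp hx
    have hnorm' : ∀ s ∈ R24.grp cS, (f g)⁻¹ * s * f g ∈ R24.grp cS := by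
      intro s hs
      rw [← hmapS] at hs
      obtain ⟨x, hx, rfl⟩ := hs
      rw [← map_inv, ← map_mul, ← map_mul]
      have := (Subgroup.mem_normalizer_iff''.mp hg x).mp hx
      exact this
    have hzcomm : ∀ y ∈ R24.grp cS, decodeP 24 5 z * y = y * decodeP 24 5 z := by
      intro y hy
      rw [Rep.grp] at hy
      induction hy using Subgroup.closure_induction with
      | mem y hy =>
        obtain ⟨s, hs, rfl⟩ := hy
        have hsok : okPerm 24 5 s = true := R24.topGens_ok hS hs
        change decodeP 24 5 z * decodeP 24 5 s = decodeP 24 5 s * decodeP 24 5 z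
        rw [← decodeP_mulP hzok hsok, (hgens s hs).1, decodeP_mulP hsok hzok]
      | one => simp
      | mul a b _ _ ha hb => rw [← mul_assoc, ha, mul_assoc, hb, mul_assoc]
      | inv a _ ha => exact (Commute.inv_right ha).eq
    refine normOk_spec hG hS hle hzok hzcomm hsearch (hrange ▸ ⟨g, rfl⟩) ?_ hnorm
    rcases centre_spec hS hcen (hnorm _ hzG) (fun y hy => by
        have := hzcomm _ (hnorm' y hy)
        calc f g * decodeP 24 5 z * (f g)⁻¹ * y
            = f g * (decodeP 24 5 z * ((f g)⁻¹ * y * f g)) * (f g)⁻¹ := by group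
          _ = f g * (((f g)⁻¹ * y * f g) * decodeP 24 5 z) * (f g)⁻¹ := by rw [this]
          _ = y * (f g * decodeP 24 5 z * (f g)⁻¹) := by group) with h1 | h1
    · have : decodeP 24 5 z = 1 := by
        calc decodeP 24 5 z = (f g)⁻¹ * (f g * decodeP 24 5 z * (f g)⁻¹) * f g := by group
          _ = 1 := by rw [h1]; group
      rw [this, mul_one, one_mul]
    · calc f g * decodeP 24 5 z = f g * decodeP 24 5 z * (f g)⁻¹ * f g := by group
        _ = decodeP 24 5 z * f g := by rw [h1]
  · rw [hP] at hT hcl ⊢
    by_cases hb : T = ⊥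
    · exact Or.inl hb
    refine Or.inr (le_antisymm hT ?_)
    have hT' : T.map f = ⊥ ∨ T.map f = R24.grp cS := by
      refine conjClosed_top_or_bot_aux hS hclosed hG hcen hzok hrange hle
        (hmapS ▸ Subgroup.map_mono hT) ?_ (IsPGroup.of_card (p := 2) (n := k)
          (by rw [R24.card_grp hS, hoS]))
      rintro _ ⟨x, hx, rfl⟩ a ha hmem
      rw [← hrange] at ha
      obtain ⟨y, rfl⟩ := ha
      refine ⟨y * x * y⁻¹, hcl x hx y ?_, by simp⟩
      change f (y * x * y⁻¹) ∈ R24.grp cS
      simpa using hmem
    rcases hT' with h | h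
    · exact absurd ((Subgroup.map_eq_bot_iff_of_injective T hfinj).mp h) hb
    · intro x hx
      have : f x ∈ T.map f := h ▸ hx
      obtain ⟨y, hy, he⟩ := this
      exact hfinj he ▸ hy

/-- Every Sylow 2-subgroup is its own normalizer. -/
theorem normalizer_le (h : certOk k cG cS z conds anchor steps = true) (e : G ≃* R24.grp cG)
    (P : Sylow 2 G) :
    Subgroup.normalizer ((P : Subgroup G) : Set G) = (P : Subgroup G) := by
  refine le_antisymm ?_ Subgroup.le_normalizer
  obtain ⟨Q, -, hQ, -⟩ := sylow_facts h e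
  obtain ⟨g, rfl⟩ := MulAction.exists_smul_eq G Q P
  rw [Sylow.coe_subgroup_smul]
  change Subgroup.normalizer (((Q : Subgroup G).map (MulAut.conj g).toMonoidHom : Subgroup G) : Set G)
    ≤ (Q : Subgroup G).map (MulAut.conj g).toMonoidHom
  rw [← Subgroup.map_equiv_normalizer_eq]
  exact Subgroup.map_mono hQ

/-- The fusion system on every Sylow 2-subgroup is simple. -/
theorem isSimple (h : certOk k cG cS z conds anchor steps = true) (e : G ≃* R24.grp cG)
    (P : Sylow 2 G) : (groupFusionSystem (P : Subgroup G)).IsSimple 2 := by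
  haveI : Fact (Nat.Prime 2) := ⟨Nat.prime_two⟩
  obtain ⟨Q, hne, -, hcl⟩ := sylow_facts h e
  obtain ⟨g, hg⟩ := MulAction.exists_smul_eq G Q P
  have hP : (P : Subgroup G) = (Q : Subgroup G).map (MulAut.conj g).toMonoidHom := by
    rw [← hg, Sylow.coe_subgroup_smul]; rfl
  refine isSimple_of_selfNormalizing P ?_ (normalizer_le h e P).le fun T hT hTc => ?_
  · rw [hP, Ne, Subgroup.map_eq_bot_iff_of_injective _ (MulEquiv.injective _)]
    exact hne
  rw [hP] at hT hTc ⊢
  rcases hcl (T.comap (MulAut.conj g).toMonoidHom) (fun x hx => by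
      obtain ⟨y, hy, he⟩ := hT (hx : MulAut.conj g x ∈ T)
      exact (MulAut.conj g).injective he ▸ hy)
      (fun x hx a ha => by
        change MulAut.conj g (a * x * a⁻¹) ∈ T
        have e1 : MulAut.conj g (a * x * a⁻¹) =
            MulAut.conj g a * MulAut.conj g x * (MulAut.conj g a)⁻¹ := by simp [mul_assoc]
        rw [e1]
        refine hTc _ hx _ ?_
        show MulAut.conj g a * MulAut.conj g x * (MulAut.conj g a)⁻¹ ∈ _
        rw [← e1]
        exact ⟨_, ha, rfl⟩) with h' | h'
  · refine Or.inl ?_
    rw [← Subgroup.map_comap_eq_self_of_surjective (f := (MulAut.conj g).toMonoidHom) (MulAut.conj g).surjective T]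
    exact (congrArg (Subgroup.map (MulAut.conj g).toMonoidHom) h').trans (Subgroup.map_bot _)
  · refine Or.inr ?_
    rw [← h']
    exact (Subgroup.map_comap_eq_self_of_surjective (f := (MulAut.conj g).toMonoidHom) (MulAut.conj g).surjective T).symm

end Cfsg.Agent.Lib.MathieuFusion
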