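import Cfsg.Agent.Lib.Golay.Simple

/-!
# A group of permutations of the 24 points as a certified group of index permutations
-/

set_option autoImplicit false

namespace Cfsg.Agent.Lib.MathieuFusion

open Cfsg
open scoped Pointwise

/-- A subgroup of the right order containing the generators is isomorphic to the certified group. -/
theorem model_of_cert {K : Subgroup (Equiv.Perm GolayPt)} {gens : List ℕ}
    {steps : List (Computation.Step ℕ)} {c : List (Computation.Level ℕ)}
    (hc : (Computation.permRep 24 5 (by decide)).checkClosure gens steps c = true)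
    (hmem : ∀ s ∈ gens, Golay.gperm s ∈ K)
    (hcard : Nat.card K = (Computation.permRep 24 5 (by decide)).order c) :
    Nonempty (K ≃* (Computation.permRep 24 5 (by decide)).grp c) := by
  have h1 := Golay.closure_eq_of_cert hc hmem hcard
  have h2 : Golay.gperm '' {s | s ∈ gens} =
      Golay.indexHom.toMonoidHom '' (Computation.decodeP 24 5 '' {s | s ∈ gens}) := by
    rw [Set.image_image]
    rfl
  have h3 := (Computation.permRep 24 5 (by decide)).closure_eq_grp hc
  have h4 : K = ((Computation.permRep 24 5 (by decide)).grp c).map Golay.indexHom.toMonoidHom := by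
    rw [← h3, MonoidHom.map_closure]
    exact h1.trans (congrArg Subgroup.closure h2)
  exact ⟨(MulEquiv.subgroupCongr h4).trans
    (Subgroup.equivMapOfInjective _ _ Golay.indexHom.injective).symm⟩

theorem m24_mem {c : ℕ} (h : Golay.inM24 c = true) : Golay.gperm c ∈ M24 := Golay.gperm_mem_M24 h

/-- A test for membership in `Cfsg.Spor.M23` or, with a second index, `Cfsg.Spor.M22`. -/
def memPts (is : List ℕ) (c : ℕ) : Bool :=
  Golay.inM24 c && is.all fun i => Nat.beq (Computation.getW 5 c i) i

theorem memPts_spec {is : List ℕ} {c : ℕ} (h : memPts is c = true) {i : ℕ} (hi : i ∈ is)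
    (h24 : i < 24) : Golay.gperm c ∈ M24 ⊓ MulAction.stabilizer (Equiv.Perm GolayPt) (Golay.pt i) := by
  simp only [memPts, Bool.and_eq_true, List.all_eq_true, Nat.beq_eq] at h
  refine ⟨Golay.gperm_mem_M24 h.1, ?_⟩
  show Golay.gperm c (Golay.pt i) = Golay.pt i
  apply Golay.idx_injective
  rw [Golay.idx_gperm (Golay.okCode_of_inM24 h.1), Golay.idx_pt h24, h.2 i hi]

/-- A test for membership in `Cfsg.Spor.M12`. -/
def memDod (c : ℕ) : Bool :=
  Golay.inM24 c && Nat.beq (Golay.permMask c (Golay.qrMask 0)) (Golay.qrMask 0)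

theorem memDod_spec {c : ℕ} (h : memDod c = true) : Golay.gperm c ∈ Spor.M12 := by
  simp only [memDod, Bool.and_eq_true, Nat.beq_eq] at h
  refine ⟨Golay.gperm_mem_M24 h.1, ?_⟩
  show Golay.gperm c • Spor.squareDodecad = Spor.squareDodecad
  rw [Golay.squareDodecad_eq, Golay.smul_setOfMask (Golay.okCode_of_inM24 h.1), h.2]

end Cfsg.Agent.Lib.MathieuFusion
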