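import Cfsg.Agent.Lib.MathieuFusion.CertM11
import Cfsg.Agent.Lib.MathieuFusion.Model

/-!
# The 2-fusion system of M11
-/

set_option autoImplicit false

namespace Cfsg.Agent.Lib.MathieuFusion

open Cfsg

theorem gens_ok_M11 : (Cert.m11G_gens.all (fun c => memPts [0] c && memDod c)) = true := by decide +kernel

theorem model_M11 : Nonempty (↥Cfsg.Spor.M11 ≃* (Computation.permRep 24 5 (by decide)).grp Cert.m11G_chain) := by
  refine model_of_cert Cert.m11G_check (fun s hs => ?_)
    (Golay.card_spor_M11.trans Cert.m11G_order.symm)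
  have h := List.all_eq_true.mp gens_ok_M11 s hs
  simp only [Bool.and_eq_true] at h
  exact ⟨memDod_spec h.2, (memPts_spec h.1 (List.mem_singleton_self _) (by norm_num)).2⟩

theorem fusion_simple_M11 (S : Sylow 2 ↥Cfsg.Spor.M11) :
    (groupFusionSystem (S : Subgroup ↥Cfsg.Spor.M11)).IsSimple 2 := by
  obtain ⟨e⟩ := model_M11
  exact isSimple Cert.m11_cert e S

theorem sylow_selfNormalizing_M11 (S : Sylow 2 ↥Cfsg.Spor.M11) :
    Subgroup.normalizer ((S : Subgroup ↥Cfsg.Spor.M11) : Set ↥Cfsg.Spor.M11) = (S : Subgroup ↥Cfsg.Spor.M11) := by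
  obtain ⟨e⟩ := model_M11
  exact normalizer_le Cert.m11_cert e S

end Cfsg.Agent.Lib.MathieuFusion
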