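import Cfsg.Agent.Lib.MathieuFusion.CertM12
import Cfsg.Agent.Lib.MathieuFusion.Model

/-!
# The 2-fusion system of M12
-/

set_option autoImplicit false

namespace Cfsg.Agent.Lib.MathieuFusion

open Cfsg

theorem gens_ok_M12 : (Cert.m12G_gens.all (memDod)) = true := by decide +kernel

theorem model_M12 : Nonempty (↥Cfsg.Spor.M12 ≃* (Computation.permRep 24 5 (by decide)).grp Cert.m12G_chain) := by
  refine model_of_cert Cert.m12G_check (fun s hs => ?_)
    (Golay.card_spor_M12.trans Cert.m12G_order.symm)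
  have h := List.all_eq_true.mp gens_ok_M12 s hs
  exact memDod_spec h

theorem fusion_simple_M12 (S : Sylow 2 ↥Cfsg.Spor.M12) :
    (groupFusionSystem (S : Subgroup ↥Cfsg.Spor.M12)).IsSimple 2 := by
  obtain ⟨e⟩ := model_M12
  exact isSimple Cert.m12_cert e S

theorem sylow_selfNormalizing_M12 (S : Sylow 2 ↥Cfsg.Spor.M12) :
    Subgroup.normalizer ((S : Subgroup ↥Cfsg.Spor.M12) : Set ↥Cfsg.Spor.M12) = (S : Subgroup ↥Cfsg.Spor.M12) := by
  obtain ⟨e⟩ := model_M12
  exact normalizer_le Cert.m12_cert e S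

end Cfsg.Agent.Lib.MathieuFusion
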