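import Cfsg.Agent.Lib.MathieuFusion.CertM22
import Cfsg.Agent.Lib.MathieuFusion.Model

/-!
# The 2-fusion system of M22
-/

set_option autoImplicit false

namespace Cfsg.Agent.Lib.MathieuFusion

open Cfsg

theorem gens_ok_M22 : (Cert.m22G_gens.all (fun c => memPts [23, 0] c)) = true := by decide +kernel

theorem model_M22 : Nonempty (↥Cfsg.Spor.M22 ≃* (Computation.permRep 24 5 (by decide)).grp Cert.m22G_chain) := by
  refine model_of_cert Cert.m22G_check (fun s hs => ?_)
    (Golay.card_spor_M22.trans Cert.m22G_order.symm)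
  have h := List.all_eq_true.mp gens_ok_M22 s hs
  exact ⟨memPts_spec (is := [23, 0]) h (i := 23) (by decide) (by norm_num),
    (memPts_spec (is := [23, 0]) h (i := 0) (by decide) (by norm_num)).2⟩

theorem fusion_simple_M22 (S : Sylow 2 ↥Cfsg.Spor.M22) :
    (groupFusionSystem (S : Subgroup ↥Cfsg.Spor.M22)).IsSimple 2 := by
  obtain ⟨e⟩ := model_M22
  exact isSimple Cert.m22_cert e S

theorem sylow_selfNormalizing_M22 (S : Sylow 2 ↥Cfsg.Spor.M22) :
    Subgroup.normalizer ((S : Subgroup ↥Cfsg.Spor.M22) : Set ↥Cfsg.Spor.M22) = (S : Subgroup ↥Cfsg.Spor.M22) := by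
  obtain ⟨e⟩ := model_M22
  exact normalizer_le Cert.m22_cert e S

end Cfsg.Agent.Lib.MathieuFusion
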