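import Cfsg.Agent.Lib.MathieuFusion.CertM23
import Cfsg.Agent.Lib.MathieuFusion.Model

/-!
# The 2-fusion system of M23
-/

set_option autoImplicit false

namespace Cfsg.Agent.Lib.MathieuFusion

open Cfsg

theorem gens_ok_M23 : (Cert.m23G_gens.all (fun c => memPts [23] c)) = true := by decide +kernel

theorem model_M23 : Nonempty (↥Cfsg.Spor.M23 ≃* (Computation.permRep 24 5 (by decide)).grp Cert.m23G_chain) := by
  refine model_of_cert Cert.m23G_check (fun s hs => ?_)
    (Golay.card_spor_M23.trans Cert.m23G_order.symm)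
  have h := List.all_eq_true.mp gens_ok_M23 s hs
  exact memPts_spec (is := [23]) h (i := 23) (by decide) (by norm_num)

theorem fusion_simple_M23 (S : Sylow 2 ↥Cfsg.Spor.M23) :
    (groupFusionSystem (S : Subgroup ↥Cfsg.Spor.M23)).IsSimple 2 := by
  obtain ⟨e⟩ := model_M23
  exact isSimple Cert.m23_cert e S

theorem sylow_selfNormalizing_M23 (S : Sylow 2 ↥Cfsg.Spor.M23) :
    Subgroup.normalizer ((S : Subgroup ↥Cfsg.Spor.M23) : Set ↥Cfsg.Spor.M23) = (S : Subgroup ↥Cfsg.Spor.M23) := by
  obtain ⟨e⟩ := model_M23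
  exact normalizer_le Cert.m23_cert e S

end Cfsg.Agent.Lib.MathieuFusion
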