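import Cfsg.Agent.Lib.MathieuFusion.CertM24
import Cfsg.Agent.Lib.MathieuFusion.Model

/-!
# The 2-fusion system of M24
-/

set_option autoImplicit false

namespace Cfsg.Agent.Lib.MathieuFusion

open Cfsg

theorem gens_ok_M24 : (Cert.m24G_gens.all (Golay.inM24)) = true := by decide +kernel

theorem model_M24 : Nonempty (↥Cfsg.M24 ≃* (Computation.permRep 24 5 (by decide)).grp Cert.m24G_chain) := by
  refine model_of_cert Cert.m24G_check (fun s hs => ?_)
    (Golay.card_M24.trans Cert.m24G_order.symm)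
  have h := List.all_eq_true.mp gens_ok_M24 s hs
  exact m24_mem h

theorem fusion_simple_M24 (S : Sylow 2 ↥Cfsg.M24) :
    (groupFusionSystem (S : Subgroup ↥Cfsg.M24)).IsSimple 2 := by
  obtain ⟨e⟩ := model_M24
  exact isSimple Cert.m24_cert e S

theorem sylow_selfNormalizing_M24 (S : Sylow 2 ↥Cfsg.M24) :
    Subgroup.normalizer ((S : Subgroup ↥Cfsg.M24) : Set ↥Cfsg.M24) = (S : Subgroup ↥Cfsg.M24) := by
  obtain ⟨e⟩ := model_M24
  exact normalizer_le Cert.m24_cert e S

end Cfsg.Agent.Lib.MathieuFusion
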